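import Cfsg.Agent.Lib.Helper36.SoBN.Defs
import Cfsg.Agent.Lib.Helper36.SuBN.G1
import Cfsg.Agent.Lib.Helper36.SuBN.G2
import Cfsg.Agent.Lib.Helper36.SuBN.E1
import Cfsg.Agent.Lib.Helper36.SoBN.E2

set_option autoImplicit false
set_option linter.unusedSectionVars false
set_option linter.unusedVariables false

namespace Cfsg.Agent.Lib.Helper36.SoBN

open Matrix Cfsg.Agent.Lib.Helper36.SuBN Cfsg.Agent.Lib.Helper86

variable {r d : ℕ} {K : Type*} [Field K] [Fintype K] (σ : K →+* K) [hσ : Fact (∀ x, σ (σ x) = x)]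
  (ε : K) (x₀ : Fin d → K) [hε : Fact (ε ≠ 0 ∧ ε + σ ε + ∑ c, x₀ c * σ (x₀ c) = 0 ∧ d ≤ 1)]

local notation "Mrr" => Matrix (Fin r) (Fin r) K
local notation "Mrd" => Matrix (Fin r) (Fin d) K
local notation "Mdr" => Matrix (Fin d) (Fin r) K
local notation "𝕍" => Matrix (I3 r d) (I3 r d) K
local notation "𝔾" => suG σ r d
local notation "e_" i => (Sum.inl i : I3 r d)
local notation "w_" c => (Sum.inr (Sum.inl c) : I3 r d)
local notation "f_" i => (Sum.inr (Sum.inr i) : I3 r d)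

/-! PIECE N1 (farm SoBN (copy of SuBN), helper36).  PROOF SKETCH:
Copy SpBN/N1.
-/

theorem isMono_of_mem_tor {t : 𝔾} (ht : t ∈ tor σ r d) : IsMono (suRho σ t) 1 := by
  intro a b hab
  by_contra hne
  exact hab (ht a b hne)

theorem isD_of_isMono_one {M : 𝕍} (h : IsMono M 1) : IsD M := by
  intro a b hab
  by_contra hne
  exact hab (h a b hne)

/-- the subgroup of the monomial unitary matrices -/
def N1_mono (r d : ℕ) : Subgroup (suG σ r d) where
  carrier := {n | ∃ π, IsMono (suRho σ n) π}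
  one_mem' := ⟨1, isMono_of_mem_tor σ (Subgroup.one_mem _)⟩
  mul_mem' := by
    rintro a b ⟨π, hπ⟩ ⟨τ, hτ⟩
    exact ⟨π * τ, by rw [map_mul]; exact hπ.mul hτ⟩
  inv_mem' := by
    rintro a ⟨π, hπ⟩
    exact ⟨π⁻¹, IsMono.inv σ hπ⟩

theorem exists_mono_of_mem_NN {n : 𝔾} (hn : n ∈ NN σ ε x₀ r) : ∃ π, IsMono (suRho σ n) π := by
  have hle : NN σ ε x₀ r ≤ N1_mono σ r d := by
    unfold NN
    rw [sup_le_iff, Subgroup.closure_le]
    constructor
    · rintro g (⟨i, j, h, -, rfl⟩ | ⟨j, -, rfl⟩)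
      · exact ⟨_, isMono_sA σ i j h⟩
      · exact ⟨_, isMono_sL σ ε x₀ j⟩
    · intro t ht
      exact ⟨1, isMono_of_mem_tor σ ht⟩
  exact hle hn

end Cfsg.Agent.Lib.Helper36.SoBN
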