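import Cfsg.Agent.Lib.Helper36.SoBN.Defs
import Cfsg.Agent.Lib.Helper36.SuBN.G2
import Cfsg.Agent.Lib.Helper36.SuBN.G4
import Cfsg.Agent.Lib.Helper36.SoBN.E2

set_option autoImplicit false
set_option linter.unusedSectionVars false
set_option linter.unusedVariables false

namespace Cfsg.Agent.Lib.Helper36.SoBN

open Matrix Cfsg.Agent.Lib.Helper36.SuBN Cfsg.Agent.Lib.Helper86

variable {r d : ℕ} {K : Type*} [Field K] [Fintype K] (σ : K →+* K) [hσ : Fact (∀ x, σ (σ x) = x)]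
  (ε : K) (x₀ : Fin d → K) [hε : Fact (ε ≠ 0 ∧ ε + σ ε + ∑ c, x₀ c * σ (x₀ c) = 0 ∧ d ≤ 1)]

local notation "Mrr" => Matrix (Fin r) (Fin r) K
local notation "Mrd" => Matrix (Fin r) (Fin d) K
local notation "Mdr" => Matrix (Fin d) (Fin r) K
local notation "𝕍" => Matrix (I3 r d) (I3 r d) K
local notation "𝔾" => suG σ r d
local notation "e_" i => (Sum.inl i : I3 r d)
local notation "w_" c => (Sum.inr (Sum.inl c) : I3 r d)
local notation "f_" i => (Sum.inr (Sum.inr i) : I3 r d)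

/-! PIECE RLy (farm SoBN (copy of SuBN), helper36). -/

theorem RLy_y_zero (j : Fin r) (y : Mdr) (hy : y * (single j j (1:K) : Mrr) = y) (c : Fin d) (k : Fin r)
    (hk : k ≠ j) : y c k = 0 := by
  rw [← hy, Matrix.mul_apply]
  apply Finset.sum_eq_zero
  intro x _
  rw [Matrix.single_apply, if_neg (fun h => hk h.2.symm), mul_zero]

theorem RLy_diag (j : Fin r) (y : Mdr) (c0 : K) (h : AdmY σ y (c0 • single j j 1)) (a : I3 r d) :
    suRho σ (mY σ y (c0 • single j j 1) h) a a = 1 := by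
  rw [mY_val]
  rcases a with a | a | a <;> simp [B3]

theorem RLy_off (j : Fin r) (y : Mdr) (c0 : K) (h : AdmY σ y (c0 • single j j 1))
    (hy : y * (single j j (1:K) : Mrr) = y) (a b : I3 r d) (hab : a ≠ b)
    (hne : suRho σ (mY σ y (c0 • single j j 1) h) a b ≠ 0) :
    (∃ c, a = (w_ c) ∧ b = (e_ j)) ∨ (a = (f_ j) ∧ b = (e_ j)) ∨ (∃ c, a = (f_ j) ∧ b = (w_ c)) := by
  rw [mY_val] at hne
  rcases a with a | a | a <;> rcases b with b | b | b
  · exfalso
    apply hne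
    have : a ≠ b := fun h => hab (by rw [h])
    simp [B3, Matrix.one_apply_ne this]
  · exfalso; apply hne; simp [B3]
  · exfalso; apply hne; simp [B3]
  · left
    refine ⟨a, rfl, ?_⟩
    by_contra hb
    apply hne
    have hb' : b ≠ j := fun h => hb (by rw [h])
    have := RLy_y_zero j y hy a b hb'
    simpa [B3] using this
  · exfalso
    apply hne
    have : a ≠ b := fun h => hab (by rw [h])
    simp [B3, Matrix.one_apply_ne this]
  · exfalso; apply hne; simp [B3]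
  · right; left
    have h1 : (c0 • (single j j (1:K) : Mrr)) a b ≠ 0 := hne
    rw [Matrix.smul_apply, Matrix.single_apply] at h1
    by_cases h2 : j = a ∧ j = b
    · rw [← h2.1, ← h2.2]
      exact ⟨rfl, rfl⟩
    · rw [if_neg h2] at h1
      simp at h1
  · right; right
    refine ⟨b, ?_, rfl⟩
    by_contra ha
    apply hne
    have ha' : a ≠ j := fun h => ha (by rw [h])
    have := RLy_y_zero j y hy b a ha'
    simp [B3, dg_apply, this]
  · exfalso
    apply hne
    have : a ≠ b := fun h => hab (by rw [h])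
    simp [B3, Matrix.one_apply_ne this]

theorem conj_mY_mem_UL (j : Fin r) (y : Mdr) (c0 : K) (h : AdmY σ y (c0 • single j j 1))
    (hy : y * (single j j (1:K) : Mrr) = y) :
    sL σ ε x₀ j * mY σ y (c0 • single j j 1) h * (sL σ ε x₀ j)⁻¹ ∈ UL σ j := by
  have hπ : (flp j : Equiv.Perm (I3 r d))⁻¹ = flp j := Equiv.swap_inv _ _
  have hπe : (flp j : Equiv.Perm (I3 r d)) (e_ j) = f_ j := Equiv.swap_apply_left _ _
  have hπf : (flp j : Equiv.Perm (I3 r d)) (f_ j) = e_ j := Equiv.swap_apply_right _ _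
  have hπw : ∀ c : Fin d, (flp j : Equiv.Perm (I3 r d)) (w_ c) = w_ c := fun c =>
    Equiv.swap_apply_of_ne_of_ne (by simp) (by simp)
  have hππ : ∀ a, (flp j : Equiv.Perm (I3 r d)) (flp j a) = a := fun a => Equiv.swap_apply_self _ _ a
  -- shape of off-diagonal non-zero entries
  have key : ∀ a b, a ≠ b →
      suRho σ (sL σ ε x₀ j * mY σ y (c0 • single j j 1) h * (sL σ ε x₀ j)⁻¹) a b ≠ 0 →
      (∃ c, a = (w_ c) ∧ b = (f_ j)) ∨ (a = (e_ j) ∧ b = (f_ j)) ∨ (∃ c, a = (e_ j) ∧ b = (w_ c)) := by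
    intro a b hab hne
    rw [conj_entry' σ (isMono_sL σ ε x₀ j) _ a b, hπ] at hne
    have h1 : suRho σ (mY σ y (c0 • single j j 1) h) (flp j a) (flp j b) ≠ 0 := by
      intro h0
      apply hne
      rw [h0, mul_zero, zero_mul]
    have h2 : (flp j a : I3 r d) ≠ flp j b := fun h => hab ((flp j).injective h)
    rcases RLy_off σ j y c0 h hy _ _ h2 h1 with ⟨c, ha, hb⟩ | ⟨ha, hb⟩ | ⟨c, ha, hb⟩
    · left
      refine ⟨c, ?_, ?_⟩
      · rw [← hππ a, ha, hπw]
      · rw [← hππ b, hb, hπe]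
    · right; left
      refine ⟨?_, ?_⟩
      · rw [← hππ a, ha, hπf]
      · rw [← hππ b, hb, hπe]
    · right; right
      refine ⟨c, ?_, ?_⟩
      · rw [← hππ a, ha, hπf]
      · rw [← hππ b, hb, hπw]
  rw [mem_UL, mem_suU]
  refine ⟨⟨?_, ?_⟩, ?_⟩
  · intro a b hab
    by_contra hne
    have hab' : a ≠ b := by
      rintro rfl
      exact lt_irrefl _ hab
    rcases key a b hab' hne with ⟨c, rfl, rfl⟩ | ⟨rfl, rfl⟩ | ⟨c, rfl, rfl⟩
    · simp only [suPos] at hab
      have := c.2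
      omega
    · simp only [suPos] at hab
      have := j.2
      omega
    · simp only [suPos] at hab
      have := j.2
      omega
  · intro a
    rw [conj_entry' σ (isMono_sL σ ε x₀ j) _ a a, hπ, RLy_diag]
    have h1 := conj_entry' σ (isMono_sL σ ε x₀ j) (1 : 𝔾) a a
    rw [hπ, mul_one, mul_inv_cancel, map_one, Matrix.one_apply_eq, Matrix.one_apply_eq] at h1
    exact h1.symm
  · intro a b hab hne
    rcases key a b hab hne with ⟨c, rfl, rfl⟩ | ⟨rfl, rfl⟩ | ⟨c, rfl, rfl⟩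
    · exact ⟨Or.inr (Or.inr ⟨c, rfl⟩), Or.inr (Or.inl rfl)⟩
    · exact ⟨Or.inl rfl, Or.inr (Or.inl rfl)⟩
    · exact ⟨Or.inl rfl, Or.inr (Or.inr ⟨c, rfl⟩)⟩

end Cfsg.Agent.Lib.Helper36.SoBN
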