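import Cfsg.Agent.Lib.Helper36.SoBN.Defs
import Cfsg.Agent.Lib.Helper36.SuBN.G1
import Cfsg.Agent.Lib.Helper36.SuBN.E1

set_option autoImplicit false
set_option linter.unusedSectionVars false
set_option linter.unusedVariables false

namespace Cfsg.Agent.Lib.Helper36.SoBN

open Matrix Cfsg.Agent.Lib.Helper36.SuBN Cfsg.Agent.Lib.Helper86

variable {r d : ℕ} {K : Type*} [Field K] [Fintype K] (σ : K →+* K) [hσ : Fact (∀ x, σ (σ x) = x)]
  (ε : K) (x₀ : Fin d → K) [hε : Fact (ε ≠ 0 ∧ ε + σ ε + ∑ c, x₀ c * σ (x₀ c) = 0 ∧ d ≤ 1)]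

local notation "Mrr" => Matrix (Fin r) (Fin r) K
local notation "Mrd" => Matrix (Fin r) (Fin d) K
local notation "Mdr" => Matrix (Fin d) (Fin r) K
local notation "𝕍" => Matrix (I3 r d) (I3 r d) K
local notation "𝔾" => suG σ r d
local notation "e_" i => (Sum.inl i : I3 r d)
local notation "w_" c => (Sum.inr (Sum.inl c) : I3 r d)
local notation "f_" i => (Sum.inr (Sum.inr i) : I3 r d)

/-! PIECE W1 (farm SoBN (copy of SuBN), helper36). -/

theorem W1_dbl_mul (π τ : Equiv.Perm (Fin r)) :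
    (dbl (π * τ) : Equiv.Perm (I3 r d)) = dbl π * dbl τ := by
  apply Equiv.ext
  intro x
  rcases x with x | x | x <;> rfl

theorem W1_dbl_one : (dbl (1 : Equiv.Perm (Fin r)) : Equiv.Perm (I3 r d)) = 1 := by
  apply Equiv.ext
  intro x
  rcases x with x | x | x <;> rfl

theorem W1_isMono_one : IsMono (1 : 𝕍) 1 := by
  intro a b hab
  by_contra hne
  exact hab (Matrix.one_apply_ne hne)

theorem exists_dbl (π : Equiv.Perm (Fin r)) :
    ∃ c ∈ Subgroup.closure (SS σ ε x₀ r), IsMono (suRho σ c) (dbl π) := by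
  cases r with
  | zero =>
    refine ⟨1, one_mem _, ?_⟩
    rw [map_one, Subsingleton.elim π 1, W1_dbl_one]
    exact W1_isMono_one
  | succ k =>
    have hπ : π ∈ Submonoid.closure (Set.range fun i : Fin k => Equiv.swap i.castSucc i.succ) := by
      rw [Equiv.Perm.mclosure_swap_castSucc_succ]
      exact Submonoid.mem_top π
    induction hπ using Submonoid.closure_induction with
    | mem x hx =>
      obtain ⟨i, rfl⟩ := hx
      have hne : i.castSucc ≠ i.succ := by
        intro h
        have := congrArg Fin.val h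
        simp at this
      exact ⟨sA σ i.castSucc i.succ hne,
        Subgroup.subset_closure (Or.inl ⟨_, _, hne, by simp, rfl⟩), isMono_sA σ _ _ _⟩
    | one =>
      exact ⟨1, one_mem _, by rw [map_one, W1_dbl_one]; exact W1_isMono_one⟩
    | mul x y _ _ hx hy =>
      obtain ⟨c1, h1, h1'⟩ := hx
      obtain ⟨c2, h2, h2'⟩ := hy
      exact ⟨c1 * c2, mul_mem h1 h2, by rw [map_mul, W1_dbl_mul]; exact h1'.mul h2'⟩

end Cfsg.Agent.Lib.Helper36.SoBN
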