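import Cfsg.Agent.Lib.Helper36.SoBN.Defs
import Cfsg.Agent.Lib.Helper36.SuBN.G1
import Cfsg.Agent.Lib.Helper36.SuBN.G2
import Cfsg.Agent.Lib.Helper36.SoBN.W1
import Cfsg.Agent.Lib.Helper36.SoBN.W2
import Cfsg.Agent.Lib.Helper36.SuBN.F1
import Cfsg.Agent.Lib.Helper36.SuBN.O2
import Cfsg.Agent.Lib.Helper36.SuBN.T1
import Cfsg.Agent.Lib.Helper36.SuBN.P1
import Cfsg.Agent.Lib.Helper36.SuBN.P2

set_option autoImplicit false
set_option linter.unusedSectionVars false
set_option linter.unusedVariables false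

namespace Cfsg.Agent.Lib.Helper36.SoBN

open Matrix Cfsg.Agent.Lib.Helper36.SuBN Cfsg.Agent.Lib.Helper86

variable {r d : ℕ} {K : Type*} [Field K] [Fintype K] (σ : K →+* K) [hσ : Fact (∀ x, σ (σ x) = x)]
  (ε : K) (x₀ : Fin d → K) [hε : Fact (ε ≠ 0 ∧ ε + σ ε + ∑ c, x₀ c * σ (x₀ c) = 0 ∧ d ≤ 1)]

local notation "Mrr" => Matrix (Fin r) (Fin r) K
local notation "Mrd" => Matrix (Fin r) (Fin d) K
local notation "Mdr" => Matrix (Fin d) (Fin r) K
local notation "𝕍" => Matrix (I3 r d) (I3 r d) K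
local notation "𝔾" => suG σ r d
local notation "e_" i => (Sum.inl i : I3 r d)
local notation "w_" c => (Sum.inr (Sum.inl c) : I3 r d)
local notation "f_" i => (Sum.inr (Sum.inr i) : I3 r d)

theorem S1_flp_fix (l i : Fin r) (h : i ≠ l) : (flp l : Equiv.Perm (I3 r d)) (e_ i) = e_ i := by
  apply Equiv.swap_apply_of_ne_of_ne
  · intro h'
    exact h (Sum.inl.inj h')
  · exact Sum.inl_ne_inr

theorem S1_flp_e (l : Fin r) : (flp l : Equiv.Perm (I3 r d)) (e_ l) = f_ l := Equiv.swap_apply_left _ _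

theorem S1_flp_f (l : Fin r) : (flp l : Equiv.Perm (I3 r d)) (f_ l) = e_ l := Equiv.swap_apply_right _ _

theorem S1_dbl_e (π : Equiv.Perm (Fin r)) (i : Fin r) :
    (dbl π : Equiv.Perm (I3 r d)) (e_ i) = e_ (π i) := rfl

theorem S1_dbl_f (π : Equiv.Perm (Fin r)) (i : Fin r) :
    (dbl π : Equiv.Perm (I3 r d)) (f_ i) = f_ (π i) := rfl

theorem stab_step (hd : d ≤ 1) {g : 𝔾} (k : Fin r) (hg : Stab k.val (suRho σ g)) :
    ∃ h ∈ bor σ r d ⊔ NN σ ε x₀ r, Stab (k.val + 1) (suRho σ (h * g)) := by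
  classical
  obtain ⟨-, l, hkl, hl⟩ := col_props σ hd hg
  have hA : ∃ c ∈ Subgroup.closure (SS σ ε x₀ r), ∃ τ : Equiv.Perm (I3 r d),
      IsMono (suRho σ c) τ ∧ (∀ i : Fin r, i.val < k.val → τ (e_ i) = e_ i) ∧
      ∃ a₀, τ a₀ = (f_ k) ∧ suRho σ g a₀ (e_ k) ≠ 0 := by
    obtain ⟨c1, hc1, hm1⟩ := exists_dbl (d := d) σ ε x₀ (Equiv.swap k l)
    have hfix : ∀ i : Fin r, i.val < k.val → Equiv.swap k l i = i := by
      intro i hi
      apply Equiv.swap_apply_of_ne_of_ne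
      · intro h; rw [h] at hi; exact lt_irrefl _ hi
      · intro h; rw [h] at hi; omega
    rcases hl with hl | hl
    · obtain ⟨c2, hc2, hm2⟩ := exists_flp (d := d) σ ε x₀ l
      refine ⟨c1 * c2, mul_mem hc1 hc2, dbl (Equiv.swap k l) * flp l, ?_, ?_, e_ l, ?_, hl⟩
      · rw [map_mul]; exact hm1.mul hm2
      · intro i hi
        have hil : i ≠ l := by
          intro h; rw [h] at hi; omega
        rw [Equiv.Perm.mul_apply, S1_flp_fix l i hil, S1_dbl_e, hfix i hi]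
      · rw [Equiv.Perm.mul_apply, S1_flp_e, S1_dbl_f, Equiv.swap_apply_right]
    · refine ⟨c1, hc1, dbl (Equiv.swap k l), hm1, ?_, f_ l, ?_, hl⟩
      · intro i hi
        rw [S1_dbl_e, hfix i hi]
      · rw [S1_dbl_f, Equiv.swap_apply_right]
  obtain ⟨c, hc, τ, hm, hτ, a₀, ha₀, hne⟩ := hA
  have hg1 : Stab k.val (suRho σ (c * g)) := Stab.mul_mono σ hm hτ hg
  obtain ⟨hlow1, -⟩ := col_props σ hd hg1
  obtain ⟨v1, hv1⟩ : ∃ v1 : I3 r d → K, v1 = fun a => suRho σ (c * g) a (e_ k) := ⟨_, rfl⟩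
  have hv1k : v1 (f_ k) ≠ 0 := by
    have h0 : v1 (f_ k) = suRho σ c (f_ k) a₀ * suRho σ g a₀ (e_ k) := by
      rw [hv1]
      show suRho σ (c * g) (f_ k) (e_ k) = _
      rw [map_mul, Matrix.mul_apply]
      apply Finset.sum_eq_single a₀
      · intro b _ hb
        by_contra hcon
        have h1 : suRho σ c (f_ k) b ≠ 0 := left_ne_zero_of_mul hcon
        have h2 := hm _ _ h1
        apply hb
        apply τ.injective
        rw [← h2, ha₀]
      · intro h; exact absurd (Finset.mem_univ _) h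
    rw [h0]
    refine mul_ne_zero ?_ hne
    have h3 := IsMono.ne_zero σ hm a₀
    rwa [ha₀] at h3
  have hhf : hf σ v1 v1 = 0 := by
    have h0 := hf_col σ (c * g) (e_ k) (e_ k)
    rw [if_neg (show ¬ ((e_ k) = bar (e_ k)) from Sum.inl_ne_inr)] at h0
    rw [hv1]
    exact h0
  have hlow1' : ∀ l : Fin r, l.val < k.val → v1 (f_ l) = 0 := by
    intro l hl
    rw [hv1]
    exact hlow1 l hl
  obtain ⟨u, hu, hucol⟩ := exists_clear_col σ v1 hhf k hv1k hlow1'
  have hg2 : Stab k.val (suRho σ (u * (c * g))) := Stab.mul_bor σ (suU_le_bor σ hu) hg1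
  have hcol2 : ∀ a, suRho σ (u * (c * g)) a (e_ k)
      = (Pi.single (f_ k) (v1 (f_ k)) : I3 r d → K) a := by
    intro a
    rw [← hucol, map_mul, Matrix.mul_apply, hv1]
    rfl
  obtain ⟨n, hn, hmn⟩ := exists_flp (d := d) σ ε x₀ k
  have hflpfix : ∀ i : Fin r, i.val < k.val → (flp k : Equiv.Perm (I3 r d)) (e_ i) = e_ i := by
    intro i hi
    apply S1_flp_fix
    intro h; rw [h] at hi; exact lt_irrefl _ hi
  have hg3 : Stab k.val (suRho σ (n * (u * (c * g)))) := Stab.mul_mono σ hmn hflpfix hg2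
  have hcol3 : ∀ a, suRho σ (n * (u * (c * g))) a (e_ k) = suRho σ n a (f_ k) * v1 (f_ k) := by
    intro a
    rw [map_mul, Matrix.mul_apply, Finset.sum_eq_single (f_ k)]
    · rw [hcol2, Pi.single_eq_same]
    · intro b _ hb
      rw [hcol2, Pi.single_eq_of_ne hb, mul_zero]
    · intro h; exact absurd (Finset.mem_univ _) h
  have hSN : Subgroup.closure (SS σ ε x₀ r) ≤ bor σ r d ⊔ NN σ ε x₀ r :=
    le_trans le_sup_left (le_sup_right (a := bor σ r d) (b := NN σ ε x₀ r))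
  refine ⟨n * u * c, ?_, ?_⟩
  · exact mul_mem (mul_mem (hSN hn) ((le_sup_left (a := bor σ r d) (b := NN σ ε x₀ r))
      (suU_le_bor σ hu))) (hSN hc)
  · have e : n * u * c * g = n * (u * (c * g)) := by simp only [mul_assoc]
    rw [e]
    intro i hi
    by_cases hik : i.val < k.val
    · exact hg3 i hik
    · have hik' : i = k := Fin.ext (by omega)
      rw [hik']
      constructor
      · rw [hcol3]
        refine mul_ne_zero ?_ hv1k
        have h3 := IsMono.ne_zero σ hmn (f_ k)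
        rwa [S1_flp_f] at h3
      · intro a ha
        rw [hcol3]
        by_contra hcon
        have h1 := left_ne_zero_of_mul hcon
        have h2 := hmn _ _ h1
        rw [S1_flp_f] at h2
        rw [h2] at ha
        exact lt_irrefl _ ha

end Cfsg.Agent.Lib.Helper36.SoBN
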